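import Groth.Agent.GrCI54.Hilb
import Groth.Agent.GrCI54.Sop
import Groth.Agent.CIBert31.Cone
import Mathlib.RingTheory.Artinian.Module
import Mathlib.RingTheory.Artinian.Ring
import Mathlib.RingTheory.Jacobson.Artinian
import Mathlib.RingTheory.HopkinsLevitzki
import Mathlib.GroupTheory.CosetCover
import Mathlib.RingTheory.KrullDimension.NonZeroDivisors

/-!
The eventual Hilbert function of a complete intersection of projective dimension zero.
-/

set_option autoImplicit false
set_option linter.style.haveILetI false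
universe u

namespace Groth.Agent.HilbCI31

open MvPolynomial

variable {F : Type u} [Field F] {n : ℕ}

/-- The geometric polynomial `∏ (1 + ⋯ + X^{dᵢ-1})`. -/
noncomputable def geom {r : ℕ} (d : Fin r → ℕ) : Polynomial ℤ :=
  ∏ i, ∑ j ∈ Finset.range (d i), Polynomial.X ^ j

theorem eval_one_geom {r : ℕ} (d : Fin r → ℕ) : (geom d).eval 1 = ∏ i, (d i : ℤ) := by
  simp [geom, Polynomial.eval_prod, Polynomial.eval_finsetSum]

theorem natDegree_geom_le {r : ℕ} (d : Fin r → ℕ) : (geom d).natDegree ≤ ∑ i, d i := by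
  refine (Polynomial.natDegree_prod_le _ _).trans (Finset.sum_le_sum fun i _ => ?_)
  refine Polynomial.natDegree_sum_le_of_forall_le _ _ fun j hj => ?_
  rw [Polynomial.natDegree_X_pow]
  exact (Finset.mem_range.1 hj).le

theorem eq_sum_of_mul_one_sub (H : PowerSeries ℤ) (P : Polynomial ℤ)
    (h : H * (1 - PowerSeries.X) = (P : PowerSeries ℤ)) (m : ℕ) :
    PowerSeries.coeff m H = ∑ j ∈ Finset.range (m + 1), P.coeff j := by
  induction m with
  | zero =>
    have h0 := congrArg (PowerSeries.coeff 0) h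
    rw [mul_sub, mul_one, map_sub, PowerSeries.coeff_zero_mul_X, sub_zero, Polynomial.coeff_coe] at h0
    rw [Finset.sum_range_one, h0]
  | succ m ih =>
    have h1 := congrArg (PowerSeries.coeff (m + 1)) h
    rw [mul_sub, mul_one, map_sub, PowerSeries.coeff_succ_mul_X, Polynomial.coeff_coe] at h1
    rw [Finset.sum_range_succ, ← ih, ← h1]
    ring

/-- The eventual Hilbert function of a regular sequence of `n` forms in `n + 1` variables. -/
theorem finrank_piece_eq (g : Fin n → MvPolynomial (Fin (n + 1)) F) (d : Fin n → ℕ)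
    (hg : ∀ i, (g i).IsHomogeneous (d i))
    (hreg : ∀ (i : Fin n) x, x * g i ∈ Ideal.span (g '' {j | j < i}) → x ∈ Ideal.span (g '' {j | j < i}))
    (m : ℕ) (hm : ∑ i, d i ≤ m) :
    Module.finrank F (GrCI54.piece (1 : Fin (n + 1) → ℕ) (Ideal.span (Set.range g)) m) = ∏ i, d i := by
  set H := GrCI54.hs (1 : Fin (n + 1) → ℕ) (Ideal.span (Set.range g)) with hH
  have h1 : H * ∏ _i : Fin (n + 1), (1 - PowerSeries.X ^ 1) = ∏ i, (1 - PowerSeries.X ^ (d i)) := by
    have hb := GrCI54.hs_bot_mul (F := F) (1 : Fin (n + 1) → ℕ) fun _ => Nat.one_pos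
    simp only [Pi.one_apply] at hb
    rw [hH, GrCI54.hs_regular (1 : Fin (n + 1) → ℕ) (fun _ => Nat.one_pos) g d hg hreg, mul_right_comm, hb, one_mul]
  have h2 : H * (1 - PowerSeries.X) = (geom d : PowerSeries ℤ) := by
    have hne : (∏ _i : Fin n, (1 - PowerSeries.X : PowerSeries ℤ)) ≠ 0 := by
      refine Finset.prod_ne_zero_iff.2 fun _ _ h => ?_
      simpa using congrArg PowerSeries.constantCoeff h
    refine mul_right_cancel₀ hne ?_
    have e : (geom d : PowerSeries ℤ) * ∏ _i : Fin n, (1 - PowerSeries.X) =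
        ∏ i, (1 - PowerSeries.X ^ (d i)) := by
      rw [geom, ← Polynomial.coeToPowerSeries.ringHom_apply, map_prod, ← Finset.prod_mul_distrib]
      refine Finset.prod_congr rfl fun i _ => ?_
      rw [map_sum, ← geom_sum_mul_neg]
      congr 1
      exact Finset.sum_congr rfl fun j _ => by simp
    rw [e, ← h1, Fin.prod_univ_succ, pow_one, mul_assoc]
  have h3 := eq_sum_of_mul_one_sub H (geom d) h2 m
  have h4 := Polynomial.eval_eq_sum_range' (p := geom d) (lt_of_le_of_lt ((natDegree_geom_le d).trans hm) (Nat.lt_succ_self m)) 1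
  simp only [one_pow, mul_one] at h4
  rw [← h4, eval_one_geom, hH, GrCI54.hs, PowerSeries.coeff_mk] at h3
  exact_mod_cast h3

/-- The graded piece of the quotient as a quotient of the graded piece. -/
noncomputable def pieceEquiv (J : Ideal (MvPolynomial (Fin (n + 1)) F)) (m : ℕ) :
    (↥(homogeneousSubmodule (Fin (n + 1)) F m) ⧸
      Submodule.comap (homogeneousSubmodule (Fin (n + 1)) F m).subtype (J.restrictScalars F)) ≃ₗ[F]
      GrCI54.piece (1 : Fin (n + 1) → ℕ) J m :=
  (Submodule.quotEquivOfEq _ (LinearMap.ker ((Ideal.Quotient.mkₐ F J).toLinearMap ∘ₗ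
      (homogeneousSubmodule (Fin (n + 1)) F m).subtype)) (by
    ext x
    exact Ideal.Quotient.eq_zero_iff_mem.symm)).trans
  ((LinearMap.quotKerEquivRange _).trans (LinearEquiv.ofEq _ _ (by
    rw [LinearMap.range_comp, Submodule.range_subtype]
    rfl)))

theorem finrank_sub_eq (J : Ideal (MvPolynomial (Fin (n + 1)) F)) (m : ℕ) :
    Module.finrank F ↥(homogeneousSubmodule (Fin (n + 1)) F m) -
      Module.finrank F ↥(J.restrictScalars F ⊓ homogeneousSubmodule (Fin (n + 1)) F m) =
    Module.finrank F (GrCI54.piece (1 : Fin (n + 1) → ℕ) J m) := by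
  have : Module.Finite F ↥(homogeneousSubmodule (Fin (n + 1)) F m) :=
    Module.Finite.iff_fg.2 (homogeneousSubmodule_fg (σ := Fin (n + 1)) (R := F) m)
  rw [← (pieceEquiv J m).finrank_eq, Submodule.finrank_quotient,
    ← Submodule.finrank_map_subtype_eq _ (Submodule.comap (homogeneousSubmodule (Fin (n + 1)) F m).subtype (J.restrictScalars F)),
    Submodule.map_comap_subtype, inf_comm]

/-- A linear form cutting the projective zero set down to nothing. -/
theorem exists_linear_finite [IsAlgClosed F] (f : Fin n → MvPolynomial (Fin (n + 1)) F) (d : Fin n → ℕ)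
    (hf : ∀ i, (f i).IsHomogeneous (d i))
    (hdim : ringKrullDim (MvPolynomial (Fin (n + 1)) F ⧸ Ideal.span (Set.range f)) = 1) :
    ∃ l : MvPolynomial (Fin (n + 1)) F, l.IsHomogeneous 1 ∧
      Module.Finite F (MvPolynomial (Fin (n + 1)) F ⧸ Ideal.span (Set.range (Fin.snoc f l : Fin (n + 1) → _))) := by
  classical
  set J := Ideal.span (Set.range f) with hJ
  let L : (Fin (n + 1) → F) →ₗ[F] MvPolynomial (Fin (n + 1)) F :=
    Fintype.linearCombination F fun i => (X i : MvPolynomial (Fin (n + 1)) F)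
  have hL : ∀ c, L c = ∑ i, c i • X i := fun c => Fintype.linearCombination_apply F _ c
  have hmin : ∀ P ∈ J.minimalPrimes, (P.restrictScalars F).comap L ≠ ⊤ := by
    intro P hP htop
    have hPp := hP.1.1
    have hX : ∀ i, X i ∈ P := fun i => by
      have : Pi.single i 1 ∈ (P.restrictScalars F).comap L := htop ▸ Submodule.mem_top
      rw [Submodule.mem_comap, Submodule.restrictScalars_mem, hL] at this
      simpa [Pi.single_apply, ite_smul] using this
    have hPv : P = CIBert31.vertex F n := by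
      refine le_antisymm (CIBert31.minimalPrime_le_vertex f hf P hP) fun p hp => ?_
      have hp0 : p ∈ Ideal.span (MvPolynomial.X '' (Set.univ : Set (Fin (n + 1)))) := by
        rw [mem_ideal_span_X_image]
        intro a ha
        by_contra hcon
        push Not at hcon
        obtain rfl : a = 0 := Finsupp.ext fun i => by simpa using hcon i (Set.mem_univ i)
        rw [mem_support_iff, ← constantCoeff_eq] at ha
        exact ha (by rw [← eval_zero]; exact hp)
      exact Ideal.span_le.2 (by rintro _ ⟨i, -, rfl⟩; exact hX i) hp0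
    have hzero : ∀ Q : Ideal (MvPolynomial (Fin (n + 1)) F), Q.IsPrime → J ≤ Q → Q = CIBert31.vertex F n := by
      intro Q hQ hJQ
      obtain ⟨P', hP', hle⟩ := Ideal.exists_minimalPrimes_le (J := Q) hJQ
      have hP'v : P' ≤ CIBert31.vertex F n := CIBert31.minimalPrime_le_vertex f hf P' hP'
      have hP'eq : CIBert31.vertex F n ≤ P' := hPv ▸ hP.2 hP'.1 (by rw [hPv]; exact hP'v)
      exact ((CIBert31.isMaximal_ker_eval (0 : Fin (n + 1) → F)).eq_of_le hQ.ne_top (hP'eq.trans hle)).symm
    have h0 : ringKrullDim (MvPolynomial (Fin (n + 1)) F ⧸ J) ≤ 0 := by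
      rw [ringKrullDim_quotient]
      have : Subsingleton (PrimeSpectrum.zeroLocus (R := MvPolynomial (Fin (n + 1)) F) J) :=
        ⟨fun a b => Subtype.ext (PrimeSpectrum.ext ((hzero _ a.1.isPrime a.2).trans (hzero _ b.1.isPrime b.2).symm))⟩
      exact Order.krullDim_nonpos_of_subsingleton
    rw [hdim] at h0
    exact absurd h0 (by decide)
  obtain ⟨c, hc⟩ : ∃ c : Fin (n + 1) → F, ∀ P ∈ J.minimalPrimes, L c ∉ P := by
    have hfin : J.minimalPrimes.Finite := J.finite_minimalPrimes_of_isNoetherianRing _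
    have := Subspace.biUnion_ne_univ_of_top_notMem (k := F) (E := Fin (n + 1) → F)
      (s := hfin.toFinset.image fun P => (P.restrictScalars F).comap L) (fun hp => by
        obtain ⟨P, hP, hPtop⟩ := Finset.mem_image.1 hp
        exact hmin P (hfin.mem_toFinset.1 hP) hPtop)
    obtain ⟨c, hc⟩ := (Set.ne_univ_iff_exists_notMem _).1 this
    exact ⟨c, fun P hP h => hc (Set.mem_biUnion (Finset.mem_image.2 ⟨P, hfin.mem_toFinset.2 hP, rfl⟩) h)⟩
  refine ⟨L c, ?_, ?_⟩
  · rw [hL]
    refine IsHomogeneous.sum _ _ _ fun i _ => ?_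
    rw [smul_eq_C_mul]
    exact isHomogeneous_C_mul_X _ _
  set K := Ideal.span (Set.range (Fin.snoc f (L c) : Fin (n + 1) → MvPolynomial (Fin (n + 1)) F)) with hK
  have hJK : J ≤ K := Ideal.span_le.2 fun x ⟨i, hi⟩ => Ideal.subset_span ⟨i.castSucc, by rw [Fin.snoc_castSucc, hi]⟩
  have hlK : L c ∈ K := Ideal.subset_span ⟨Fin.last n, Fin.snoc_last _ _⟩
  have hmax : ∀ Q : Ideal (MvPolynomial (Fin (n + 1)) F), Q.IsPrime → K ≤ Q → Q.IsMaximal := by
    intro Q hQ hKQ
    obtain ⟨P, hP, hle⟩ := Ideal.exists_minimalPrimes_le (J := Q) (hJK.trans hKQ)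
    have hlt : P < Q := lt_of_le_of_ne hle fun h => hc P hP (h ▸ hKQ hlK)
    obtain ⟨M, hM, hQM⟩ := Ideal.exists_le_maximal Q hQ.ne_top
    by_contra hQmax
    have hlt2 : Q < M := lt_of_le_of_ne hQM fun h => hQmax (h ▸ hM)
    let s : LTSeries (PrimeSpectrum.zeroLocus (R := MvPolynomial (Fin (n + 1)) F) J) :=
      { length := 2
        toFun := ![⟨⟨P, hP.1.1⟩, hP.1.2⟩, ⟨⟨Q, hQ⟩, hJK.trans hKQ⟩, ⟨⟨M, hM.isPrime⟩, hJK.trans (hKQ.trans hQM)⟩]
        step := fun i => by fin_cases i <;> [exact hlt; exact hlt2] }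
    have hlen := Order.LTSeries.length_le_krullDim s
    rw [← ringKrullDim_quotient, hdim] at hlen
    change ((2 : ℕ) : WithBot ℕ∞) ≤ 1 at hlen
    exact absurd hlen (by decide)
  have hart : IsArtinianRing (MvPolynomial (Fin (n + 1)) F ⧸ K) := by
    refine isArtinianRing_iff_krullDimLE_zero.2 (Ring.krullDimLE_zero_iff.2 fun q hq => ?_)
    have hm := hmax (q.comap (Ideal.Quotient.mk K)) (hq.comap _) (fun x hx => by
      rw [Ideal.mem_comap, Ideal.Quotient.eq_zero_iff_mem.2 hx]; exact q.zero_mem)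
    have hmap := Ideal.map_comap_of_surjective (Ideal.Quotient.mk K) Ideal.Quotient.mk_surjective q
    rcases Ideal.map_eq_top_or_isMaximal_of_surjective (Ideal.Quotient.mk K) Ideal.Quotient.mk_surjective hm with h | h
    · rw [hmap] at h
      exact absurd h hq.ne_top
    · rwa [hmap] at h
  exact Module.finite_iff_isArtinianRing F (MvPolynomial (Fin (n + 1)) F ⧸ K) |>.2 hart

/-- Cancellation conditions from finiteness after adding a linear form. -/
theorem reg_of_finite (g : Fin n → MvPolynomial (Fin (n + 1)) F) (d : Fin n → ℕ) (hd : ∀ i, 0 < d i)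
    (hg : ∀ i, (g i).IsHomogeneous (d i)) (l : MvPolynomial (Fin (n + 1)) F) (hl : l.IsHomogeneous 1)
    (hfin : Module.Finite F (MvPolynomial (Fin (n + 1)) F ⧸ Ideal.span (Set.range (Fin.snoc g l : Fin (n + 1) → _)))) :
    (∀ (i : Fin n) x, x * g i ∈ Ideal.span (g '' {j | j < i}) → x ∈ Ideal.span (g '' {j | j < i})) ∧
      ∀ x, x * l ∈ Ideal.span (Set.range g) → x ∈ Ideal.span (Set.range g) := by
  have hw := GrCI54.isWeaklyRegular_of_finite (1 : Fin (n + 1) → ℕ) (fun _ => Nat.one_pos)
    (Fin.snoc g l : Fin (n + 1) → MvPolynomial (Fin (n + 1)) F) (Fin.snoc d 1 : Fin (n + 1) → ℕ)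
    (fun i => by
      cases i using Fin.lastCases with
      | last => simp
      | cast i => simpa using hd i)
    (fun i => by
      cases i using Fin.lastCases with
      | last => rw [Fin.snoc_last, Fin.snoc_last]; exact hl
      | cast i => rw [Fin.snoc_castSucc, Fin.snoc_castSucc]; exact hg i) hfin
  have key := fun i => GrCI54.reg_of_isWeaklyRegular hw i
  have himg : ∀ i : Fin n, (Fin.snoc g l : Fin (n + 1) → MvPolynomial (Fin (n + 1)) F) '' {j | j < i.castSucc} =
      g '' {j | j < i} := by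
    intro i
    ext y
    constructor
    · rintro ⟨j, hj, rfl⟩
      cases j using Fin.lastCases with
      | last => exact absurd hj (not_lt.2 (Fin.le_last _))
      | cast j => exact ⟨j, Fin.castSucc_lt_castSucc_iff.1 hj, by simp⟩
    · rintro ⟨j, hj, rfl⟩
      exact ⟨j.castSucc, Fin.castSucc_lt_castSucc_iff.2 hj, by simp⟩
  have hlast : (Fin.snoc g l : Fin (n + 1) → MvPolynomial (Fin (n + 1)) F) '' {j | j < Fin.last n} =
      Set.range g := by
    ext y
    constructor
    · rintro ⟨j, hj, rfl⟩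
      cases j using Fin.lastCases with
      | last => exact absurd (show Fin.last n < Fin.last n from hj) (lt_irrefl _)
      | cast j => exact ⟨j, by simp⟩
    · rintro ⟨j, rfl⟩
      exact ⟨j.castSucc, Fin.castSucc_lt_last j, by simp⟩
  exact ⟨fun i x => by simpa [himg] using key i.castSucc x, fun x => by simpa [hlast] using key (Fin.last n) x⟩

end Groth.Agent.HilbCI31
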