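import Groth.Agent.HilbCI31.Main
import Mathlib.RingTheory.Polynomial.UniqueFactorization
import Mathlib.RingTheory.UniqueFactorizationDomain.Ideal
import Mathlib.RingTheory.KrullDimension.Polynomial

/-!
Two plane curves: the affine Bézout count.
-/

set_option autoImplicit false
universe u

namespace Groth.Agent.HilbCI31

open MvPolynomial

attribute [local instance] MvPolynomial.weightedGradedAlgebra

variable {F : Type u} [Field F]

/-- Substitution of `c` for the last variable. -/
noncomputable def sub (c : MvPolynomial (Fin 2) F) : MvPolynomial (Fin 3) F →ₐ[F] MvPolynomial (Fin 2) F :=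
  aeval (Fin.cons (X 0) (Fin.cons (X 1) (Fin.cons c Fin.elim0)) : Fin 3 → MvPolynomial (Fin 2) F)

/-- Inclusion of the first two variables. -/
noncomputable def lift : MvPolynomial (Fin 2) F →ₐ[F] MvPolynomial (Fin 3) F := rename Fin.castSucc

theorem sub_surjective (c : MvPolynomial (Fin 2) F) : Function.Surjective (sub c) := by
  intro p
  refine ⟨lift p, ?_⟩
  change ((sub c).comp lift) p = p
  have : (sub c).comp lift = AlgHom.id F (MvPolynomial (Fin 2) F) := by
    refine algHom_ext fun i => ?_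
    fin_cases i <;> simp [sub, lift]
  rw [this]
  rfl

theorem sub_lift_mem (a : F) (p : MvPolynomial (Fin 3) F) :
    p - lift (sub (C a) p) ∈ Ideal.span {X 2 - C a} := by
  have h : (Ideal.Quotient.mkₐ F (Ideal.span {(X 2 - C a : MvPolynomial (Fin 3) F)})).comp
      (lift.comp (sub (C a))) = Ideal.Quotient.mkₐ F _ := by
    refine algHom_ext fun i => ?_
    simp only [AlgHom.comp_apply, sub, aeval_X, Ideal.Quotient.mkₐ_eq_mk]
    fin_cases i
    · simp [lift]
    · simp [lift]
    · change Ideal.Quotient.mk _ (lift (C a : MvPolynomial (Fin 2) F)) = Ideal.Quotient.mk _ (X 2)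
      rw [show lift (C a : MvPolynomial (Fin 2) F) = C a from rename_C _ a, eq_comm, Ideal.Quotient.eq]
      exact Ideal.mem_span_singleton_self _
  exact Ideal.Quotient.eq.1 (AlgHom.congr_fun h p).symm

/-- An element of `k[X,Y,T]` lies in `(f, g, T - a)` iff its image lies in `(f_a, g_a)`. -/
theorem sub_mem_iff (a : F) (f g p : MvPolynomial (Fin 3) F) :
    sub (C a) p ∈ Ideal.span {sub (C a) f, sub (C a) g} ↔
      p ∈ Ideal.span {f, g} ⊔ Ideal.span {X 2 - C a} := by
  have hspan : Ideal.span {sub (C a) f, sub (C a) g} =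
      (Ideal.span {f, g} : Ideal (MvPolynomial (Fin 3) F)).map (sub (C a)).toRingHom := by
    rw [Ideal.map_span, Set.image_pair]; rfl
  rw [hspan]
  refine Iff.trans (Ideal.mem_comap (f := (sub (C a)).toRingHom)).symm ?_
  rw [Ideal.comap_map_of_surjective (sub (C a)).toRingHom (sub_surjective (C a))]
  have hker : Ideal.comap (sub (C a)).toRingHom ⊥ = Ideal.span {X 2 - C a} := by
    refine le_antisymm (fun q hq => ?_) ?_
    · have hq0 : sub (C a) q = 0 := hq
      have := sub_lift_mem a q
      rwa [hq0, map_zero, sub_zero] at this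
    · rw [Ideal.span_singleton_le_iff_mem]
      show sub (C a) (X 2 - C a) = 0
      rw [map_sub, sub, aeval_X, algHom_C]
      exact sub_self _
  rw [hker]

theorem reg_pair {f g : MvPolynomial (Fin 3) F} (hf0 : f ≠ 0) (hfg : IsRelPrime f g) :
    ∀ (i : Fin 2) x, x * ![f, g] i ∈ Ideal.span (![f, g] '' {j | j < i}) →
      x ∈ Ideal.span (![f, g] '' {j | j < i}) := by
  intro i x hx
  fin_cases i
  · have h0 : {j : Fin 2 | j < 0} = ∅ := by ext j; simp
    simp only [Fin.zero_eta, h0, Set.image_empty, Ideal.span_empty, Ideal.mem_bot, Matrix.cons_val_zero] at hx ⊢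
    exact (mul_eq_zero.1 hx).resolve_right hf0
  · have h1 : {j : Fin 2 | j < 1} = {0} := by ext j; fin_cases j <;> simp
    simp only [Fin.mk_one, h1, Set.image_singleton, Matrix.cons_val_zero, Matrix.cons_val_one,
      Matrix.cons_val_fin_one, Ideal.mem_span_singleton] at hx ⊢
    exact hfg.dvd_of_dvd_mul_right hx

theorem finrank_piece_pair {n m d : ℕ} {f g : MvPolynomial (Fin 3) F} (hf : f.IsHomogeneous n)
    (hg : g.IsHomogeneous m) (hf0 : f ≠ 0) (hfg : IsRelPrime f g) (hd : n + m ≤ d) :
    Module.finrank F (GrCI54.piece (1 : Fin 3 → ℕ) (Ideal.span {f, g}) d) = n * m := by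
  have := finrank_piece_eq (n := 2) ![f, g] ![n, m] (fun i => by fin_cases i <;> assumption)
    (reg_pair hf0 hfg) d (by simpa [Fin.sum_univ_two] using hd)
  rwa [Matrix.range_cons_cons_empty, Fin.prod_univ_two] at this

theorem finite_binary {a b : MvPolynomial (Fin 2) F} (hab : IsRelPrime a b) :
    Module.Finite F (MvPolynomial (Fin 2) F ⧸ Ideal.span {a, b}) := by
  refine (Module.finite_iff_isArtinianRing F _).2 (isArtinianRing_iff_krullDimLE_zero.2
    (Ring.krullDimLE_zero_iff.2 fun q hq => ?_))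
  set P := q.comap (Ideal.Quotient.mk (Ideal.span {a, b})) with hP
  have hPp : P.IsPrime := hq.comap _
  have hle : Ideal.span {a, b} ≤ P := fun x hx => by
    rw [hP, Ideal.mem_comap, Ideal.Quotient.eq_zero_iff_mem.2 hx]; exact q.zero_mem
  have hPmax : P.IsMaximal := by
    by_cases hbot : P = ⊥
    · rw [hbot, le_bot_iff, Ideal.span_eq_bot] at hle
      have ha : a = 0 := hle a (by simp)
      have hb : b = 0 := hle b (by simp)
      exact absurd (hab (d := 0) (by simp [ha]) (by simp [hb])) not_isUnit_zero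
    obtain ⟨p, hpP, hp⟩ := Ideal.IsPrime.exists_mem_prime_of_ne_bot hPp hbot
    have hlt : Ideal.span {p} < P := by
      refine lt_of_le_of_ne ((Ideal.span_singleton_le_iff_mem _).2 hpP) fun h => hp.not_isUnit ?_
      have ha : a ∈ Ideal.span {p} := h ▸ hle (Ideal.subset_span (by simp))
      have hb : b ∈ Ideal.span {p} := h ▸ hle (Ideal.subset_span (by simp))
      exact hab (Ideal.mem_span_singleton.1 ha) (Ideal.mem_span_singleton.1 hb)
    obtain ⟨M, hM, hPM⟩ := Ideal.exists_le_maximal P hPp.ne_top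
    by_contra hmax
    have hlt2 : P < M := lt_of_le_of_ne hPM fun h => hmax (h ▸ hM)
    have hpp : (Ideal.span {p}).IsPrime := (Ideal.span_singleton_prime hp.ne_zero).2 hp
    let s : LTSeries (PrimeSpectrum (MvPolynomial (Fin 2) F)) :=
      { length := 3
        toFun := ![⟨⊥, Ideal.isPrime_bot⟩, ⟨_, hpp⟩, ⟨P, hPp⟩, ⟨M, hM.isPrime⟩]
        step := fun i => by
          fin_cases i
          · exact (bot_lt_iff_ne_bot (a := Ideal.span {p})).2 (by simpa using hp.ne_zero)
          · exact hlt
          · exact hlt2 }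
    have hlen : ((3 : ℕ) : WithBot ℕ∞) ≤ ringKrullDim (MvPolynomial (Fin 2) F) :=
      Order.LTSeries.length_le_krullDim s
    rw [MvPolynomial.ringKrullDim_of_isNoetherianRing, ringKrullDim_eq_zero_of_field] at hlen
    rw [Nat.card_eq_fintype_card, Fintype.card_fin, zero_add, Nat.cast_le] at hlen
    omega
  have hmap := Ideal.map_comap_of_surjective (Ideal.Quotient.mk (Ideal.span {a, b})) Ideal.Quotient.mk_surjective q
  rcases Ideal.map_eq_top_or_isMaximal_of_surjective (Ideal.Quotient.mk (Ideal.span {a, b}))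
    Ideal.Quotient.mk_surjective hPmax with h | h
  · rw [hP, hmap] at h
    exact absurd h hq.ne_top
  · rwa [hP, hmap] at h

theorem bezout {n m : ℕ} {f g : MvPolynomial (Fin 3) F} (hf : f.IsHomogeneous n) (hg : g.IsHomogeneous m)
    (hn : 0 < n) (hm : 0 < m) (hf0 : f ≠ 0) (hfg : IsRelPrime f g) (hT : IsRelPrime (sub 0 f) (sub 0 g)) :
    Module.finrank F (MvPolynomial (Fin 2) F ⧸ Ideal.span {sub 1 f, sub 1 g}) = n * m := by
  classical
  set J := Ideal.span ({f, g} : Set (MvPolynomial (Fin 3) F)) with hJ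
  -- `T` is a nonzerodivisor modulo `(f, g)`
  have hrange : Set.range (Fin.snoc ![f, g] (X 2) : Fin 3 → MvPolynomial (Fin 3) F) = {f, g} ∪ {X 2} := by
    rw [Fin.range_snoc, Matrix.range_cons_cons_empty, Set.union_singleton]
  have hfin : Module.Finite F (MvPolynomial (Fin 3) F ⧸
      Ideal.span (Set.range (Fin.snoc ![f, g] (X 2) : Fin 3 → MvPolynomial (Fin 3) F))) := by
    have := finite_binary hT
    refine Module.Finite.of_injective (Ideal.quotientMapₐ (Ideal.span {sub 0 f, sub 0 g}) (sub 0) ?_).toLinearMap ?_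
    · intro p hp
      rw [hrange, Ideal.span_union] at hp
      show sub 0 p ∈ Ideal.span {sub 0 f, sub 0 g}
      rw [← (C_0 : (C (0 : F) : MvPolynomial (Fin 2) F) = 0), sub_mem_iff, C_0, sub_zero]
      exact hp
    · refine (injective_iff_map_eq_zero _).2 fun y hy => ?_
      obtain ⟨p, rfl⟩ := Ideal.Quotient.mk_surjective y
      have hp' : sub 0 p ∈ Ideal.span {sub 0 f, sub 0 g} := Ideal.Quotient.eq_zero_iff_mem.1 hy
      rw [← (C_0 : (C (0 : F) : MvPolynomial (Fin 2) F) = 0), sub_mem_iff, C_0, sub_zero] at hp'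
      rw [Ideal.Quotient.eq_zero_iff_mem, hrange, Ideal.span_union]
      exact hp'
  have hT2 : ∀ x, x * X 2 ∈ J → x ∈ J := by
    have := (reg_of_finite (n := 2) ![f, g] ![n, m] (fun i => by fin_cases i <;> assumption)
      (fun i => by fin_cases i <;> assumption) (X 2) (isHomogeneous_X F 2) hfin).2
    rwa [Matrix.range_cons_cons_empty] at this
  have hJh : J.IsHomogeneous (weightedHomogeneousSubmodule F (1 : Fin 3 → ℕ)) := by
    have := GrCI54.isHomogeneous_span (1 : Fin 3 → ℕ) ![f, g] ![n, m] (fun i => by fin_cases i <;> assumption)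
    rwa [Matrix.range_cons_cons_empty] at this
  have hTpow : ∀ (l : ℕ) x, x * X 2 ^ l ∈ J → x ∈ J := by
    intro l
    induction l with
    | zero => intro x hx; simpa using hx
    | succ l ih => intro x hx; exact ih x (hT2 _ (by rwa [mul_assoc, ← pow_succ]))
  -- homogeneous elements in `J + (T - 1)` lie in `J`
  have hinj : ∀ (d : ℕ) (a : MvPolynomial (Fin 3) F), a.IsHomogeneous d →
      a ∈ J ⊔ Ideal.span {X 2 - C 1} → a ∈ J := by
    intro d a ha hmem
    obtain ⟨j, hj, z, hz, hjz⟩ := Submodule.mem_sup.1 hmem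
    obtain ⟨b, rfl⟩ := Ideal.mem_span_singleton'.1 hz
    rw [C_1, mul_sub, mul_one] at hjz
    have hcomp : ∀ v, (if v = d then a else 0) =
        weightedHomogeneousComponent (1 : Fin 3 → ℕ) v j +
          ((if 1 ≤ v then weightedHomogeneousComponent (1 : Fin 3 → ℕ) (v - 1) b * X 2 else 0) -
            weightedHomogeneousComponent (1 : Fin 3 → ℕ) v b) := by
      intro v
      rw [← GrCI54.component_mul (1 : Fin 3 → ℕ) (isHomogeneous_X F 2) v, ← map_sub, ← map_add, hjz]
      split_ifs with h
      · subst h; exact (ha.weightedHomogeneousComponent_same).symm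
      · exact (ha.weightedHomogeneousComponent_ne v h).symm
    have hcj : ∀ v, weightedHomogeneousComponent (1 : Fin 3 → ℕ) v j ∈ J := fun v =>
      GrCI54.component_mem (1 : Fin 3 → ℕ) hJh hj v
    have hlow : ∀ v, v < d → weightedHomogeneousComponent (1 : Fin 3 → ℕ) v b ∈ J := by
      intro v
      induction v with
      | zero =>
        intro hv
        have h := hcomp 0
        rw [if_neg hv.ne, if_neg (by omega), zero_sub, ← sub_eq_add_neg, eq_comm, sub_eq_zero] at h
        exact h ▸ hcj 0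
      | succ v ih =>
        intro hv
        have h := hcomp (v + 1)
        rw [if_neg hv.ne, if_pos (by omega), Nat.add_sub_cancel] at h
        have e : weightedHomogeneousComponent (1 : Fin 3 → ℕ) (v + 1) b =
            weightedHomogeneousComponent (1 : Fin 3 → ℕ) (v + 1) j +
              weightedHomogeneousComponent (1 : Fin 3 → ℕ) v b * X 2 := by linear_combination h
        rw [e]
        exact add_mem (hcj _) (J.mul_mem_right _ (ih (by omega)))
    have hhigh : ∀ l, weightedHomogeneousComponent (1 : Fin 3 → ℕ) (d + l) b + a * X 2 ^ l ∈ J := by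
      intro l
      induction l with
      | zero =>
        have h := hcomp d
        rw [if_pos rfl] at h
        rw [add_zero, pow_zero, mul_one]
        have e : weightedHomogeneousComponent (1 : Fin 3 → ℕ) d b + a =
            weightedHomogeneousComponent (1 : Fin 3 → ℕ) d j +
              (if 1 ≤ d then weightedHomogeneousComponent (1 : Fin 3 → ℕ) (d - 1) b * X 2 else 0) := by
          linear_combination h
        rw [e]
        refine add_mem (hcj _) ?_
        split_ifs with hd
        · exact J.mul_mem_right _ (hlow _ (by omega))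
        · exact J.zero_mem
      | succ l ih =>
        have h := hcomp (d + (l + 1))
        rw [if_neg (by omega), if_pos (by omega), show d + (l + 1) - 1 = d + l by omega] at h
        have e : weightedHomogeneousComponent (1 : Fin 3 → ℕ) (d + (l + 1)) b + a * X 2 ^ (l + 1) =
            weightedHomogeneousComponent (1 : Fin 3 → ℕ) (d + (l + 1)) j +
              (weightedHomogeneousComponent (1 : Fin 3 → ℕ) (d + l) b + a * X 2 ^ l) * X 2 := by
          linear_combination h
        rw [e]
        exact add_mem (hcj _) (J.mul_mem_right _ ih)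
    have hzero := MvPolynomial.homogeneousComponent_eq_zero (d + (b.totalDegree + 1)) b (by omega)
    have := hhigh (b.totalDegree + 1)
    rw [show weightedHomogeneousComponent (1 : Fin 3 → ℕ) (d + (b.totalDegree + 1)) b = 0 from hzero, zero_add] at this
    exact hTpow _ _ this
  -- the comparison map
  set d₀ := n + m with hd₀
  let Φ : ↥(homogeneousSubmodule (Fin 3) F d₀) →ₗ[F] MvPolynomial (Fin 2) F ⧸ Ideal.span {sub 1 f, sub 1 g} :=
    (Ideal.Quotient.mkₐ F _).toLinearMap ∘ₗ (sub 1).toLinearMap ∘ₗ (homogeneousSubmodule (Fin 3) F d₀).subtype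
  have hker : LinearMap.ker Φ =
      Submodule.comap (homogeneousSubmodule (Fin 3) F d₀).subtype (J.restrictScalars F) := by
    ext a
    rw [LinearMap.mem_ker]
    change Ideal.Quotient.mk _ (sub 1 (a : MvPolynomial (Fin 3) F)) = 0 ↔ _
    rw [Ideal.Quotient.eq_zero_iff_mem, ← (C_1 : (C (1 : F) : MvPolynomial (Fin 2) F) = 1), sub_mem_iff]
    exact ⟨fun h => hinj d₀ a a.2 h, fun h => Ideal.mem_sup_left h⟩
  have hbij : ∀ e, d₀ ≤ e → ∀ a ∈ homogeneousSubmodule (Fin 3) F e,
      ∃ b ∈ homogeneousSubmodule (Fin 3) F d₀, a - b * X 2 ^ (e - d₀) ∈ J := by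
    intro e he a ha
    let μ : GrCI54.piece (1 : Fin 3 → ℕ) J d₀ →ₗ[F] GrCI54.piece (1 : Fin 3 → ℕ) J e :=
      ((LinearMap.mulRight F (Ideal.Quotient.mk J (X 2 ^ (e - d₀)))) ∘ₗ (GrCI54.piece (1 : Fin 3 → ℕ) J d₀).subtype).codRestrict _ (fun y => by
        obtain ⟨w, hw, hwy⟩ := (GrCI54.mem_piece (1 : Fin 3 → ℕ)).1 y.2
        refine (GrCI54.mem_piece (1 : Fin 3 → ℕ)).2 ⟨w * X 2 ^ (e - d₀), ?_, ?_⟩
        · have h' := (show w.IsHomogeneous d₀ from hw).mul ((isHomogeneous_X F (2 : Fin 3)).pow (e - d₀))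
          rwa [one_mul, Nat.add_sub_cancel' he] at h'
        · rw [map_mul, hwy]; rfl)
    have hμ : Function.Injective μ := by
      refine (injective_iff_map_eq_zero μ).2 fun y hy => ?_
      obtain ⟨w, hw, hwy⟩ := (GrCI54.mem_piece (1 : Fin 3 → ℕ)).1 y.2
      have h0 : (y : MvPolynomial (Fin 3) F ⧸ J) * Ideal.Quotient.mk J (X 2 ^ (e - d₀)) = 0 := congrArg Subtype.val hy
      rw [← hwy, ← map_mul, Ideal.Quotient.eq_zero_iff_mem] at h0
      refine Subtype.ext ?_
      rw [← hwy, Submodule.coe_zero, Ideal.Quotient.eq_zero_iff_mem]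
      exact hTpow _ _ h0
    have := GrCI54.finite_piece (F := F) (1 : Fin 3 → ℕ) (fun _ => Nat.one_pos) J d₀
    have := GrCI54.finite_piece (F := F) (1 : Fin 3 → ℕ) (fun _ => Nat.one_pos) J e
    have hdim : Module.finrank F (GrCI54.piece (1 : Fin 3 → ℕ) J d₀) =
        Module.finrank F (GrCI54.piece (1 : Fin 3 → ℕ) J e) := by
      rw [finrank_piece_pair hf hg hf0 hfg le_rfl, finrank_piece_pair hf hg hf0 hfg he]
    obtain ⟨y, hy⟩ := (LinearMap.injective_iff_surjective_of_finrank_eq_finrank hdim).1 hμ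
      ⟨Ideal.Quotient.mk J a, (GrCI54.mem_piece (1 : Fin 3 → ℕ)).2 ⟨a, ha, rfl⟩⟩
    obtain ⟨w, hw, hwy⟩ := (GrCI54.mem_piece (1 : Fin 3 → ℕ)).1 y.2
    refine ⟨w, hw, ?_⟩
    rw [← Ideal.Quotient.eq, map_mul, hwy]
    exact (congrArg Subtype.val hy).symm
  have hsub1 : sub (1 : MvPolynomial (Fin 2) F) (X 2) = 1 := by
    simp [sub]; rfl
  have hhom : ∀ (i : ℕ) (a : MvPolynomial (Fin 3) F), a.IsHomogeneous i →
      Ideal.Quotient.mk (Ideal.span {sub 1 f, sub 1 g}) (sub 1 a) ∈ LinearMap.range Φ := by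
    intro i a ha
    have ha' : a * X 2 ^ d₀ ∈ homogeneousSubmodule (Fin 3) F (i + d₀) := by
      have h' := ha.mul ((isHomogeneous_X F (2 : Fin 3)).pow d₀)
      rwa [one_mul] at h'
    obtain ⟨w, hw, hwJ⟩ := hbij (i + d₀) (by omega) _ ha'
    refine ⟨⟨w, hw⟩, ?_⟩
    change Ideal.Quotient.mk _ (sub 1 w) = Ideal.Quotient.mk _ (sub 1 a)
    rw [eq_comm, Ideal.Quotient.eq]
    have := Ideal.mem_map_of_mem (sub (1 : MvPolynomial (Fin 2) F)).toRingHom hwJ
    rw [hJ, Ideal.map_span, Set.image_pair] at this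
    simpa [hsub1] using this
  have hsurj : Function.Surjective Φ := by
    intro z
    obtain ⟨p, rfl⟩ := Ideal.Quotient.mk_surjective z
    obtain ⟨q, rfl⟩ := sub_surjective (1 : MvPolynomial (Fin 2) F) p
    rw [← LinearMap.mem_range, ← sum_homogeneousComponent q, map_sum, map_sum]
    exact Submodule.sum_mem _ fun i _ => hhom i _ (homogeneousComponent_isHomogeneous i q)
  rw [← (LinearMap.quotKerEquivOfSurjective Φ hsurj).finrank_eq, hker, (pieceEquiv J d₀).finrank_eq]
  exact finrank_piece_pair hf hg hf0 hfg le_rfl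

end Groth.Agent.HilbCI31
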